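import Groth.Agent.Lib.GammaD.Tau
import Mathlib.Algebra.TrivSqZeroExt.Basic
import Mathlib.LinearAlgebra.Basis.Prod
import Mathlib.LinearAlgebra.TensorProduct.Prod
import Mathlib.RingTheory.Flat.EquationalCriterion

/-! Symmetric tensors of a flat module come from finite free stages. -/

universe u
open scoped TensorProduct

namespace Groth.Agent.SymFlatH28

open Groth.Agent.GammaD

variable {R : Type u} [CommRing R]

/-- The symmetric tensors of a module. -/
noncomputable def Sym (n : ℕ) (M : Type u) [AddCommGroup M] [Module R M] : Submodule R (⨂[R] _ : Fin n, M) :=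
  ⨅ σ : Equiv.Perm (Fin n),
    LinearMap.eqLocus (PiTensorProduct.reindex R (fun _ : Fin n => M) σ).toLinearMap LinearMap.id

theorem mem_Sym {n : ℕ} {M : Type u} [AddCommGroup M] [Module R M] {t : ⨂[R] _ : Fin n, M} :
    t ∈ Sym (R := R) n M ↔ ∀ σ : Equiv.Perm (Fin n), PiTensorProduct.reindex R (fun _ : Fin n => M) σ t = t := by
  simp [Sym, LinearMap.mem_eqLocus]

theorem pmap_id (n : ℕ) {M : Type u} [AddCommGroup M] [Module R M] (t : ⨂[R] _ : Fin n, M) :
    pmap n (LinearMap.id : M →ₗ[R] M) t = t := by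
  induction t using PiTensorProduct.induction_on with
  | smul_tprod r x => simp [pmap]
  | add x y hx hy => simp only [map_add, hx, hy]

/-- Every module is a retract of a ring, flat if the module is. -/
theorem exists_ring_retract (R : Type u) [CommRing R] (M : Type u) [AddCommGroup M] [Module R M] :
    ∃ (B : Type u) (_ : CommRing B) (_ : Algebra R B) (i : M →ₗ[R] B) (q : B →ₗ[R] M), q ∘ₗ i = LinearMap.id ∧
      Nonempty (B ≃ₗ[R] R × M) := by
  letI : Module Rᵐᵒᵖ M := Module.compHom M (RingHom.fromOpposite (RingHom.id R) mul_comm)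
  haveI : IsCentralScalar R M := ⟨fun r m => rfl⟩
  refine ⟨TrivSqZeroExt R M, inferInstance, inferInstance, TrivSqZeroExt.inrHom R M,
    TrivSqZeroExt.sndHom R M, LinearMap.ext fun m => rfl, ⟨?_⟩⟩
  exact { toFun := fun x => (x.fst, x.snd), invFun := fun x => x, map_add' := fun x y => rfl,
          map_smul' := fun r x => rfl, left_inv := fun x => rfl, right_inv := fun x => rfl }

variable {n : ℕ} {M : Type u} [AddCommGroup M] [Module R M]

theorem pmap_mem_Sym {N : Type u} [AddCommGroup N] [Module R N] (f : M →ₗ[R] N) {t : ⨂[R] _ : Fin n, M}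
    (ht : t ∈ Sym (R := R) n M) : pmap n f t ∈ Sym (R := R) n N :=
  mem_Sym.2 fun σ => by rw [← pmap_reindex, mem_Sym.1 ht σ]

theorem flat_prod [Module.Flat R M] : Module.Flat R (R × M) := by
  refine Module.Flat.iff_lTensor_preserves_injective_linearMap.2 fun N N' _ _ _ _ f hf => ?_
  rw [← LinearMap.ker_eq_bot, LinearMap.ker_eq_bot']
  intro x hx
  refine (TensorProduct.prodLeft R R R M N).injective ?_
  have key : ∀ y : (R × M) ⊗[R] N, TensorProduct.prodLeft R R R M N y =
      ((LinearMap.fst R R M).rTensor N y, (LinearMap.snd R R M).rTensor N y) := by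
    intro y
    induction y using TensorProduct.induction_on with
    | zero => simp only [map_zero]; rfl
    | add a b ha hb => simp [ha, hb]
    | tmul p m => rfl
  have hcomm : ∀ {Q : Type u} [AddCommGroup Q] [Module R Q] (g : (R × M) →ₗ[R] Q),
      f.lTensor Q (g.rTensor N x) = 0 := by
    intro Q _ _ g
    rw [← LinearMap.comp_apply, LinearMap.lTensor_comp_rTensor, ← LinearMap.rTensor_comp_lTensor,
      LinearMap.comp_apply, hx, map_zero]
  rw [key, map_zero, Prod.mk_eq_zero]
  exact ⟨(injective_iff_map_eq_zero _).1 (Module.Flat.lTensor_preserves_injective_linearMap (M := R) f hf) _ (hcomm _),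
    (injective_iff_map_eq_zero _).1 (Module.Flat.lTensor_preserves_injective_linearMap (M := M) f hf) _ (hcomm _)⟩

theorem exists_stage [Module.Flat R M] {t : ⨂[R] _ : Fin n, M} (ht : t ∈ Sym (R := R) n M) :
    ∃ (F : Type u) (_ : AddCommGroup F) (_ : Module R F) (_ : Module.Free R F) (_ : Module.Finite R F)
      (a : F →ₗ[R] M) (w : ⨂[R] _ : Fin n, F), pmap n a w = t ∧ w ∈ Sym (R := R) n F := by
  obtain ⟨B, _, _, i, q, hqi, ⟨e⟩⟩ := exists_ring_retract R M
  haveI : Module.Flat R (R × M) := flat_prod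
  haveI : Module.Flat R B := Module.Flat.of_linearEquiv e
  have hy : pmap n i t ∈ SymTen.TS R B n := (SymTen.mem_TS_iff R B n _).2 (mem_Sym.1 (pmap_mem_Sym i ht))
  obtain ⟨F, i₁, i₂, i₃, i₄, a, w, hw, hinv⟩ := exists_invariant_stage R B n hy
  refine ⟨F, i₁, i₂, i₃, i₄, q ∘ₗ a, w, ?_, mem_Sym.2 hinv⟩
  rw [pmap_comp, hw, ← pmap_comp, hqi, pmap_id]

theorem exists_kill_mod [Module.Flat R M] {F : Type u} [AddCommGroup F] [Module R F] [Module.Free R F]
    [Module.Finite R F] (a : F →ₗ[R] M) (w : ⨂[R] _ : Fin n, F) (hw : pmap n a w = 0) :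
    ∃ (F' : Type u) (_ : AddCommGroup F') (_ : Module R F') (_ : Module.Free R F') (_ : Module.Finite R F')
      (a₁ : F →ₗ[R] F') (a₂ : F' →ₗ[R] M), a = a₂ ∘ₗ a₁ ∧ pmap n a₁ w = 0 := by
  obtain ⟨B, _, _, i, q, hqi, ⟨e⟩⟩ := exists_ring_retract R M
  haveI : Module.Flat R (R × M) := flat_prod
  haveI : Module.Flat R B := Module.Flat.of_linearEquiv e
  obtain ⟨F', i₁, i₂, i₃, i₄, a₁, a₂, h1, h2⟩ := exists_kill_zero R B n (i ∘ₗ a) w
    (by rw [pmap_comp, hw, map_zero])
  refine ⟨F', i₁, i₂, i₃, i₄, a₁, q ∘ₗ a₂, ?_, h2⟩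
  rw [LinearMap.comp_assoc, ← h1, ← LinearMap.comp_assoc, hqi, LinearMap.id_comp]

instance flat_Sym_of_free [Module.Free R M] : Module.Flat R (Sym (R := R) n M) := by
  obtain ⟨B, _, _, i, q, hqi, ⟨e⟩⟩ := exists_ring_retract R M
  obtain ⟨⟨κ, c⟩⟩ := Module.Free.exists_basis (R := R) (M := M)
  let bB : Module.Basis (PUnit.{u + 1} ⊕ κ) R B := ((Module.Basis.singleton PUnit.{u + 1} R).prod c).map e.symm
  let P : (⨂[R] _ : Fin n, M) →ₗ[R] Sym (R := R) n M :=
    (pmap n q ∘ₗ orbP n bB ∘ₗ pmap n i).codRestrict _ fun t =>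
      pmap_mem_Sym q (mem_Sym.2 ((SymTen.mem_TS_iff R B n _).1 (orbP_mem_TS bB _)))
  haveI : Module.Flat R (⨂[R] _ : Fin n, M) := by
    haveI := Module.Free.of_basis (Basis.piTensorProduct fun _ : Fin n => c)
    infer_instance
  refine Module.Flat.of_retract (Sym (R := R) n M).subtype P (LinearMap.ext fun t => Subtype.ext ?_)
  show pmap n q (orbP n bB (pmap n i t.1)) = t.1
  rw [orbP_eq_self bB ((SymTen.mem_TS_iff R B n _).2 (mem_Sym.1 (pmap_mem_Sym i t.2))), ← pmap_comp, hqi, pmap_id]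

theorem flat_Sym [Module.Flat R M] : Module.Flat R (Sym (R := R) n M) := by
  classical
  rw [Module.Flat.iff_forall_isTrivialRelation]
  intro l f x hx
  choose F i₁ i₂ i₃ i₄ a w hw hinv using fun j => exists_stage (R := R) (x j).2
  let G := ∀ j, F j
  let b : G →ₗ[R] M := ∑ j, a j ∘ₗ LinearMap.proj j
  let v : Fin l → ⨂[R] _ : Fin n, G := fun j => pmap n (LinearMap.single R F j) (w j)
  have hbs : ∀ j, b ∘ₗ LinearMap.single R F j = a j := by
    intro j
    refine LinearMap.ext fun y => ?_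
    simp only [b, LinearMap.comp_apply, LinearMap.sum_apply]
    rw [Finset.sum_eq_single j (fun k _ hk => by
      show a k (Pi.single (M := F) j y k) = 0
      rw [Pi.single_eq_of_ne hk, map_zero]) (fun h => absurd (Finset.mem_univ j) h)]
    show a j (Pi.single (M := F) j y j) = a j y
    rw [Pi.single_eq_same]
  have hv : ∀ j, pmap n b (v j) = (x j).1 := fun j => by rw [← pmap_comp, hbs, hw]
  have h0 : pmap n b (∑ j, f j • v j) = 0 := by
    have := congrArg Subtype.val hx
    simpa [map_sum, hv] using this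
  obtain ⟨G', _, _, _, _, a₁, a₂, hb, hk⟩ := exists_kill_mod b _ h0
  let z : Fin l → Sym (R := R) n G' := fun j =>
    ⟨pmap n a₁ (v j), pmap_mem_Sym _ (pmap_mem_Sym _ (hinv j))⟩
  have hz : ∑ j, f j • z j = 0 := Subtype.ext (by simpa [z, map_sum] using hk)
  obtain ⟨κ, A, y, hy, hA⟩ := Module.Flat.isTrivialRelation_of_sum_smul_eq_zero hz
  refine ⟨κ, A, fun k => ⟨pmap n a₂ (y k).1, pmap_mem_Sym _ (y k).2⟩, fun j => Subtype.ext ?_, hA⟩
  have := congrArg Subtype.val (hy j)
  simp only [z] at this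
  rw [← hv j, hb, pmap_comp, this]
  simp [map_sum]

theorem exists_sym_lift {N : Type u} [AddCommGroup N] [Module R N] [Module.Flat R N] (f : M →ₗ[R] N)
    (hf : Function.Surjective f) {t : ⨂[R] _ : Fin n, N} (ht : t ∈ Sym (R := R) n N) :
    ∃ s ∈ Sym (R := R) n M, pmap n f s = t := by
  obtain ⟨F, _, _, _, _, a, w, hw, hinv⟩ := exists_stage ht
  obtain ⟨ℓ, hℓ⟩ := Module.projective_lifting_property f a hf
  exact ⟨pmap n ℓ w, pmap_mem_Sym _ hinv, by rw [← pmap_comp, hℓ, hw]⟩

end Groth.Agent.SymFlatH28
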